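import Cfsg.Agent.HSRecog.Cert2.Table

/-! Generated by tools/dcoset/emit.py: rules and relators. -/

set_option Elab.async false

namespace Cfsg.Agent.HSRecog.Cert2

open Cfsg.Agent.DCoset Cfsg.Agent.CosetCert

def rSS : Store := (.leaf 0x1000100010001000100010001000100010000000000000000000000000000)

noncomputable def rS : Nat → Nat := get16 rSS

def rDS : Store := (.leaf 0x1000100010001000100010001000100010000000000000000000000000000)

noncomputable def rD : Nat → Nat := get16 rDS

def rUS : Store := (.node 12 (.node 6 (.node 3 (.node 1 (.leaf 0x1) (.node 2 (.leaf 0x10001) (.leaf 0x20001))) (.node 4 (.leaf 0x30001) (.node 5 (.leaf 0x40001) (.leaf 0x50001)))) (.node 9 (.node 7 (.leaf 0x60001) (.node 8 (.leaf 0x1) (.leaf 0x10001))) (.node 10 (.leaf 0x30000020004) (.node 11 (.leaf 0x30303060202020007) (.leaf 0x503000002040006))))) (.node 18 (.node 15 (.node 13 (.leaf 0x503030306020202040009) (.node 14 (.leaf 0x40001) (.leaf 0x50001))) (.node 16 (.leaf 0x60001) (.node 17 (.leaf 0x1) (.leaf 0x10001)))) (.node 21 (.node 19 (.leaf 0x30000020004)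 (.node 20 (.leaf 0x30303060202020007) (.leaf 0x503000002040006))) (.node 23 (.node 22 (.leaf 0x503030306020202040009) (.leaf 0x40001)) (.node 24 (.leaf 0x50001) (.leaf 0x60001))))))

def rVS : Store := (.node 12 (.node 6 (.node 3 (.node 1 (.leaf 0x1) (.node 2 (.leaf 0x10001) (.leaf 0x20001))) (.node 4 (.leaf 0x30001) (.node 5 (.leaf 0x40001) (.leaf 0x50001)))) (.node 9 (.node 7 (.leaf 0x60001) (.node 8 (.leaf 0x10001) (.leaf 0x1))) (.node 10 (.leaf 0x30303060202020007) (.node 11 (.leaf 0x30000020004) (.leaf 0x503030306020202040009))))) (.node 18 (.node 15 (.node 13 (.leaf 0x503000002040006) (.node 14 (.leaf 0x40001) (.leaf 0x50001))) (.node 16 (.leaf 0x60001) (.node 17 (.leaf 0x1) (.leaf 0x10001)))) (.node 21 (.node 19 (.leaf 0x30000020004) (.node 20 (.leaf 0x30303060202020007) (.leaf 0x503000002040006))) (.node 23 (.node 22 (.leaf 0x503030306020202040009) (.leaf 0x40001)) (.node 24 (.leaf 0x50001) (.leaf 0x60001))))))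

def invTS : Store := (.leaf 0x10000)

noncomputable def invT : Nat → Nat := get16 invTS

def mulTS : Store := (.leaf 0x1000200020001)

noncomputable def mulT : Nat → Nat := get16 mulTS

def relHdS : Store := (.leaf 0x10001)

noncomputable def relHd : Nat → Nat := get16 relHdS

def relLenS : Store := (.leaf 0x30002)

noncomputable def relLen : Nat → Nat := get16 relLenS

def relWS : Store := (.node 3 (.node 1 (.leaf 0x303000202030002060009) (.node 2 (.leaf 0x303000202030002060009) (.leaf 0x0))) (.node 4 (.leaf 0x3030002) (.node 5 (.leaf 0x30001) (.leaf 0x20001))))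

def relTS : Store := (.leaf 0x100010001000000010001)

noncomputable def relT : Nat → Nat := get16 relTS

def relTlS : Store := (.node 1 (.leaf 0x603010203030102020009) (.leaf 0x30300000004))

/-- The rules and relators. -/
noncomputable def rules : Rules where
  nT := 2
  invT := invT
  mulT a b := mulT (Nat.add (Nat.mul a 2) b)
  nRule := 25
  rS := rS
  rD := rD
  rU := rUS.get
  rV := rVS.get
  nRel := 2
  relHd := relHd
  relLen := relLen
  relW r m := relWS.get (Nat.add (Nat.mul r 3) m)
  relT r m := relT (Nat.add (Nat.mul r 3) m)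
  relTl := relTlS.get

end Cfsg.Agent.HSRecog.Cert2
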