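import Cfsg.Agent.HSRecog.Cert2.RuleData

/-! Generated by tools/dcoset/emit.py: step words. -/

set_option Elab.async false

namespace Cfsg.Agent.HSRecog.Cert2

open Cfsg.Agent.DCoset Cfsg.Agent.CosetCert

def argWS_1 : Store := (.node 9 (.node 4 (.node 2 (.node 1 (.leaf 0x1) (.leaf 0x20001)) (.node 3 (.leaf 0x40001) (.leaf 0x60001))) (.node 6 (.node 5 (.leaf 0x20001) (.leaf 0x0)) (.node 7 (.leaf 0x20001) (.node 8 (.leaf 0x0) (.leaf 0x1))))) (.node 13 (.node 11 (.node 10 (.leaf 0x0) (.leaf 0x40001)) (.node 12 (.leaf 0x0) (.leaf 0x20001))) (.node 15 (.node 14 (.leaf 0x0) (.leaf 0x1)) (.node 16 (.leaf 0x0) (.node 17 (.leaf 0x1) (.leaf 0x0))))))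

def argWS_2 : Store := (.node 27 (.node 22 (.node 20 (.node 19 (.leaf 0x60002) (.leaf 0x0)) (.node 21 (.leaf 0x20001) (.leaf 0x0))) (.node 24 (.node 23 (.leaf 0x2060002) (.leaf 0x0)) (.node 25 (.leaf 0x1) (.node 26 (.leaf 0x0) (.leaf 0x40002))))) (.node 32 (.node 29 (.node 28 (.leaf 0x0) (.leaf 0x40002)) (.node 30 (.leaf 0x0) (.node 31 (.leaf 0x4020003) (.leaf 0x0)))) (.node 34 (.node 33 (.leaf 0x60001) (.leaf 0x0)) (.node 35 (.leaf 0x10604020004) (.node 36 (.leaf 0x0) (.leaf 0x20001))))))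

def argWS_3 : Store := (.node 18 argWS_1 argWS_2)

def argWS_4 : Store := (.node 46 (.node 41 (.node 39 (.node 38 (.leaf 0x0) (.leaf 0x2040002)) (.node 40 (.leaf 0x0) (.leaf 0x40001))) (.node 43 (.node 42 (.leaf 0x0) (.leaf 0x4020002)) (.node 44 (.leaf 0x0) (.node 45 (.leaf 0x4020002) (.leaf 0x0))))) (.node 50 (.node 48 (.node 47 (.leaf 0x2040002) (.leaf 0x0)) (.node 49 (.leaf 0x60002) (.leaf 0x0))) (.node 52 (.node 51 (.leaf 0x6020003) (.leaf 0x0)) (.node 53 (.leaf 0x60001) (.node 54 (.leaf 0x0) (.leaf 0x10001))))))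

def argWS_5 : Store := (.node 64 (.node 59 (.node 57 (.node 56 (.leaf 0x0) (.leaf 0x10001)) (.node 58 (.leaf 0x0) (.leaf 0x1040002))) (.node 61 (.node 60 (.leaf 0x0) (.leaf 0x60002)) (.node 62 (.leaf 0x0) (.node 63 (.leaf 0x6020003) (.leaf 0x0))))) (.node 69 (.node 66 (.node 65 (.leaf 0x10604020004) (.leaf 0x0)) (.node 67 (.leaf 0x1050306030005) (.node 68 (.leaf 0x0) (.leaf 0x2040002)))) (.node 71 (.node 70 (.leaf 0x0) (.leaf 0x303040003)) (.node 72 (.leaf 0x0) (.node 73 (.leaf 0x6020003) (.leaf 0x0))))))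

def argWS_6 : Store := (.node 55 argWS_4 argWS_5)

def argWS_7 : Store := (.node 37 argWS_3 argWS_6)

def argWS_8 : Store := (.node 83 (.node 78 (.node 76 (.node 75 (.leaf 0x200020006020402060303000b) (.leaf 0x0)) (.node 77 (.leaf 0x303040003) (.leaf 0x0))) (.node 80 (.node 79 (.leaf 0x303010306030006) (.leaf 0x0)) (.node 81 (.leaf 0x303010306030006) (.node 82 (.leaf 0x0) (.leaf 0x60000020002060202060304000c))))) (.node 87 (.node 85 (.node 84 (.leaf 0x0) (.leaf 0x200020006020402060303000b)) (.node 86 (.leaf 0x0) (.leaf 0x40300000306040007))) (.node 89 (.node 88 (.leaf 0x0) (.leaf 0x4020002)) (.node 90 (.leaf 0x0) (.node 91 (.leaf 0x206050003) (.leaf 0x0))))))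

def argWS_9 : Store := (.node 101 (.node 96 (.node 94 (.node 93 (.leaf 0x1050306030005) (.leaf 0x0)) (.node 95 (.leaf 0x1020103050306030008) (.leaf 0x0))) (.node 98 (.node 97 (.leaf 0x6020003) (.leaf 0x0)) (.node 99 (.leaf 0x4000200030604020008) (.node 100 (.leaf 0x0) (.leaf 0x60001))))) (.node 106 (.node 103 (.node 102 (.leaf 0x0) (.leaf 0x6040003)) (.node 104 (.leaf 0x0) (.node 105 (.leaf 0x206050003) (.leaf 0x0)))) (.node 108 (.node 107 (.leaf 0x10300030503060007) (.leaf 0x0)) (.node 109 (.leaf 0x6040003) (.node 110 (.leaf 0x0) (.leaf 0x6050004))))))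

def argWS_10 : Store := (.node 92 argWS_8 argWS_9)

def argWS_11 : Store := (.node 120 (.node 115 (.node 113 (.node 112 (.leaf 0x0) (.leaf 0x2060002)) (.node 114 (.leaf 0x0) (.leaf 0x50000020002060202060304000c))) (.node 117 (.node 116 (.leaf 0x0) (.leaf 0x1040002)) (.node 118 (.leaf 0x0) (.node 119 (.leaf 0x3010301060005) (.leaf 0x0))))) (.node 125 (.node 122 (.node 121 (.leaf 0x10300030503060007) (.leaf 0x0)) (.node 123 (.leaf 0x400030002060402060303000b) (.node 124 (.leaf 0x0) (.leaf 0x40300000306040007)))) (.node 127 (.node 126 (.leaf 0x0) (.leaf 0x403000006020605030009)) (.node 128 (.leaf 0x0) (.node 129 (.leaf 0x4000200030604020008) (.leaf 0x0))))))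

def argWS_12 : Store := (.node 139 (.node 134 (.node 132 (.node 131 (.leaf 0x3060002000605030008) (.leaf 0x0)) (.node 133 (.leaf 0x0) (.leaf 0x6000301020603030008))) (.node 136 (.node 135 (.leaf 0x6000301020603030008) (.leaf 0x0)) (.node 137 (.leaf 0x0) (.node 138 (.leaf 0x402040003) (.leaf 0x402040003))))) (.node 144 (.node 141 (.node 140 (.leaf 0x0) (.leaf 0x20001)) (.node 142 (.leaf 0x0) (.node 143 (.leaf 0x2000002) (.leaf 0x0)))) (.node 146 (.node 145 (.leaf 0x20001) (.leaf 0x0)) (.node 147 (.leaf 0x2020002) (.node 148 (.leaf 0x0) (.leaf 0x202040003))))))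

def argWS_13 : Store := (.node 130 argWS_11 argWS_12)

def argWS_14 : Store := (.node 111 argWS_10 argWS_13)

def argWS_15 : Store := (.node 74 argWS_7 argWS_14)

def argWS_16 : Store := (.node 158 (.node 153 (.node 151 (.node 150 (.leaf 0x0) (.leaf 0x200020003)) (.node 152 (.leaf 0x0) (.leaf 0x200020003))) (.node 155 (.node 154 (.leaf 0x0) (.leaf 0x2000002)) (.node 156 (.leaf 0x0) (.node 157 (.leaf 0x200040003) (.leaf 0x0))))) (.node 162 (.node 160 (.node 159 (.leaf 0x20004020004) (.leaf 0x0)) (.node 161 (.leaf 0x2000402040005) (.leaf 0x0))) (.node 164 (.node 163 (.leaf 0x20002020004) (.leaf 0x0)) (.node 165 (.leaf 0x20002000004) (.node 166 (.leaf 0x0) (.leaf 0x3040002))))))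

def argWS_17 : Store := (.node 176 (.node 171 (.node 169 (.node 168 (.leaf 0x0) (.leaf 0x0)) (.node 170 (.leaf 0x0) (.leaf 0x300040003))) (.node 173 (.node 172 (.leaf 0x0) (.leaf 0x0)) (.node 174 (.leaf 0x3010303050005) (.node 175 (.leaf 0x300050003) (.leaf 0x0))))) (.node 181 (.node 178 (.node 177 (.leaf 0xb09080d0004) (.leaf 0x0)) (.node 179 (.leaf 0x0) (.node 180 (.leaf 0x2000200020005) (.leaf 0x0)))) (.node 183 (.node 182 (.leaf 0x0) (.leaf 0x4030104030005)) (.node 184 (.leaf 0x200020002060006) (.node 185 (.leaf 0x0) (.leaf 0xb0f0c0a0004))))))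

def argWS_18 : Store := (.node 167 argWS_16 argWS_17)

def argWS_19 : Store := (.node 195 (.node 190 (.node 188 (.node 187 (.leaf 0x0) (.leaf 0x0)) (.node 189 (.leaf 0x0) (.leaf 0x0))) (.node 192 (.node 191 (.leaf 0x104020603030006) (.leaf 0x0)) (.node 193 (.leaf 0x0) (.node 194 (.leaf 0x403000002060305030603000b) (.leaf 0x104020603030006))))) (.node 199 (.node 197 (.node 196 (.leaf 0x0) (.leaf 0x103000002060202060305000b)) (.node 198 (.leaf 0x0) (.leaf 0x104020603030006))) (.node 201 (.node 200 (.leaf 0x0) (.leaf 0x2020603050007)) (.node 202 (.leaf 0x0) (.node 203 (.leaf 0x403000002060305030603000b) (.leaf 0x0))))))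

def argWS_20 : Store := (.node 213 (.node 208 (.node 206 (.node 205 (.leaf 0x2020603040007) (.leaf 0x0)) (.node 207 (.leaf 0x403000002060305030603000b) (.leaf 0x0))) (.node 210 (.node 209 (.leaf 0x103000002060202060305000b) (.leaf 0x0)) (.node 211 (.leaf 0x104020603030006) (.node 212 (.leaf 0x0) (.leaf 0x6030604020006))))) (.node 218 (.node 215 (.node 214 (.leaf 0x0) (.leaf 0x0)) (.node 216 (.leaf 0x50102000003060305030603000c) (.node 217 (.leaf 0x0) (.leaf 0xa0b0002)))) (.node 220 (.node 219 (.leaf 0x30001) (.leaf 0x0)) (.node 221 (.leaf 0x0) (.node 222 (.leaf 0x3000002060005) (.leaf 0x0))))))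

def argWS_21 : Store := (.node 204 argWS_19 argWS_20)

def argWS_22 : Store := (.node 186 argWS_18 argWS_21)

def argWS_23 : Store := (.node 232 (.node 227 (.node 225 (.node 224 (.leaf 0xc090f0a0e0005) (.leaf 0x30001)) (.node 226 (.leaf 0x0) (.leaf 0x0))) (.node 229 (.node 228 (.leaf 0x50002) (.leaf 0x0)) (.node 230 (.leaf 0x0) (.node 231 (.leaf 0x403000002060006) (.leaf 0x20603030004))))) (.node 236 (.node 234 (.node 233 (.leaf 0x0) (.leaf 0xc090c0a0004)) (.node 235 (.leaf 0x30001) (.leaf 0x0))) (.node 238 (.node 237 (.leaf 0x0) (.leaf 0x0)) (.node 239 (.leaf 0x0) (.node 240 (.leaf 0x40200000206030007) (.leaf 0x0))))))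

def argWS_24 : Store := (.node 250 (.node 245 (.node 243 (.node 242 (.leaf 0x0) (.leaf 0x30604020006)) (.node 244 (.leaf 0x0) (.leaf 0x0))) (.node 247 (.node 246 (.leaf 0x4020000030603060402000a) (.leaf 0xb080d0a0004)) (.node 248 (.leaf 0x0) (.node 249 (.leaf 0x1030002) (.leaf 0x3060002000402050008))))) (.node 255 (.node 252 (.node 251 (.leaf 0x0) (.leaf 0x7070f0c0d0005)) (.node 253 (.leaf 0x0) (.node 254 (.leaf 0xb090f0e0a0005) (.leaf 0xfd0000fc)))) (.node 257 (.node 256 (.leaf 0x0) (.leaf 0x3000002020605030008)) (.node 258 (.leaf 0x3030000030602040008) (.node 259 (.leaf 0x0) (.leaf 0x0))))))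

def argWS_25 : Store := (.node 241 argWS_23 argWS_24)

def argWS_26 : Store := (.node 269 (.node 264 (.node 262 (.node 261 (.leaf 0x0) (.leaf 0xc0001)) (.node 263 (.leaf 0x0) (.leaf 0x40200000206030007))) (.node 266 (.node 265 (.leaf 0x0) (.leaf 0xa0b0a0003)) (.node 267 (.leaf 0x20001) (.node 268 (.leaf 0x0) (.leaf 0x0))))) (.node 274 (.node 271 (.node 270 (.leaf 0x0) (.leaf 0x1040002)) (.node 272 (.leaf 0x102000406030503060009) (.node 273 (.leaf 0x0) (.leaf 0x90f0002)))) (.node 276 (.node 275 (.leaf 0x0) (.leaf 0x0)) (.node 277 (.leaf 0x0) (.node 278 (.leaf 0x30001) (.leaf 0x0))))))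

def argWS_27 : Store := (.node 288 (.node 283 (.node 281 (.node 280 (.leaf 0x306020605030006) (.leaf 0x20001)) (.node 282 (.leaf 0x0) (.leaf 0x0))) (.node 285 (.node 284 (.leaf 0x0) (.leaf 0xf0a0002)) (.node 286 (.leaf 0x306020605030006) (.node 287 (.leaf 0x0) (.leaf 0xb070d0003))))) (.node 293 (.node 290 (.node 289 (.leaf 0x0) (.leaf 0x602000306040006)) (.node 291 (.leaf 0x401030102060402060303000b) (.node 292 (.leaf 0x0) (.leaf 0x80f0e0a0004)))) (.node 295 (.node 294 (.leaf 0x0) (.leaf 0x125)) (.node 296 (.leaf 0x0) (.node 297 (.leaf 0x202000002060202020603000b) (.leaf 0x500000201030006))))))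

def argWS_28 : Store := (.node 279 argWS_26 argWS_27)

def argWS_29 : Store := (.node 260 argWS_25 argWS_28)

def argWS_30 : Store := (.node 223 argWS_22 argWS_29)

def argWS_31 : Store := (.node 149 argWS_15 argWS_30)

def argWS_32 : Store := (.node 307 (.node 302 (.node 300 (.node 299 (.leaf 0x0) (.leaf 0x0)) (.node 301 (.leaf 0x0) (.leaf 0x80f0c0d0004))) (.node 304 (.node 303 (.leaf 0x30604020006) (.leaf 0x0)) (.node 305 (.leaf 0x206030005) (.node 306 (.leaf 0x0) (.leaf 0x0))))) (.node 311 (.node 309 (.node 308 (.leaf 0x0) (.leaf 0x40001)) (.node 310 (.leaf 0x0) (.leaf 0xa0b090f0c0d0006))) (.node 313 (.node 312 (.leaf 0x301030003) (.leaf 0x0)) (.node 314 (.leaf 0x0) (.node 315 (.leaf 0x0) (.leaf 0x0))))))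

def argWS_33 : Store := (.node 325 (.node 320 (.node 318 (.node 317 (.leaf 0x6020603030007) (.leaf 0x9080d0a0004)) (.node 319 (.leaf 0x90f0c0003) (.leaf 0x0))) (.node 322 (.node 321 (.leaf 0x202000002060202020603000b) (.leaf 0x10306020605030007)) (.node 323 (.leaf 0x0) (.node 324 (.leaf 0xb09070003) (.leaf 0x0))))) (.node 330 (.node 327 (.node 326 (.leaf 0x14400013e) (.leaf 0x0)) (.node 328 (.leaf 0x3000002020605030008) (.node 329 (.leaf 0x20102020603040007) (.leaf 0x0)))) (.node 332 (.node 331 (.leaf 0x0) (.leaf 0x0)) (.node 333 (.leaf 0xb0f0d0c0004) (.node 334 (.leaf 0x0) (.leaf 0x300000206020006))))))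

def argWS_34 : Store := (.node 316 argWS_32 argWS_33)

def argWS_35 : Store := (.node 344 (.node 339 (.node 337 (.node 336 (.leaf 0x200000206020402060303000b) (.leaf 0x0)) (.node 338 (.leaf 0xb090002) (.leaf 0x0))) (.node 341 (.node 340 (.leaf 0x0) (.leaf 0x4020603030007)) (.node 342 (.leaf 0x10301060202040007) (.node 343 (.leaf 0x0) (.leaf 0xb09070a0004))))) (.node 348 (.node 346 (.node 345 (.leaf 0x0) (.leaf 0x158)) (.node 347 (.leaf 0x0) (.leaf 0x602020603050008))) (.node 350 (.node 349 (.leaf 0x50000020103060402060303000c) (.leaf 0x0)) (.node 351 (.leaf 0x0) (.node 352 (.leaf 0x0) (.leaf 0xb09070e0004))))))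

def argWS_36 : Store := (.node 362 (.node 357 (.node 355 (.node 354 (.leaf 0x0) (.leaf 0x0)) (.node 356 (.leaf 0x4020004) (.leaf 0x3000402050005))) (.node 359 (.node 358 (.leaf 0x0) (.leaf 0x0)) (.node 360 (.leaf 0x0) (.node 361 (.leaf 0xb080e0003) (.leaf 0x0))))) (.node 367 (.node 364 (.node 363 (.leaf 0x0) (.leaf 0xb090f0e0004)) (.node 365 (.leaf 0x30001) (.node 366 (.leaf 0x0) (.leaf 0x0)))) (.node 369 (.node 368 (.leaf 0x30604020006) (.leaf 0x0)) (.node 370 (.leaf 0x90f0002) (.node 371 (.leaf 0x30001) (.leaf 0x0))))))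

def argWS_37 : Store := (.node 353 argWS_35 argWS_36)

def argWS_38 : Store := (.node 335 argWS_34 argWS_37)

def argWS_39 : Store := (.node 381 (.node 376 (.node 374 (.node 373 (.leaf 0x0) (.leaf 0x0)) (.node 375 (.leaf 0x0) (.leaf 0x604020603030006))) (.node 378 (.node 377 (.leaf 0x0) (.leaf 0x0)) (.node 379 (.leaf 0x60306030503060007) (.node 380 (.leaf 0xf0e0c0003) (.leaf 0x0))))) (.node 385 (.node 383 (.node 382 (.leaf 0x102000003060402060303000b) (.leaf 0x3000206020402060303000b)) (.node 384 (.leaf 0x0) (.leaf 0xc0001))) (.node 387 (.node 386 (.leaf 0x0) (.leaf 0xc090c0003)) (.node 388 (.leaf 0x182000181) (.node 389 (.leaf 0x60306030503060007) (.leaf 0x0))))))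

def argWS_40 : Store := (.node 399 (.node 394 (.node 392 (.node 391 (.leaf 0x0) (.leaf 0x20603030004)) (.node 393 (.leaf 0x200000306030503060009) (.leaf 0x0))) (.node 396 (.node 395 (.leaf 0x0) (.leaf 0x0)) (.node 397 (.leaf 0x90f0c0a0004) (.node 398 (.leaf 0x0) (.leaf 0x604020603030006))))) (.node 404 (.node 401 (.node 400 (.leaf 0x0) (.leaf 0x3050306030005)) (.node 402 (.leaf 0x0) (.node 403 (.leaf 0xf0e0a0003) (.leaf 0x30001)))) (.node 406 (.node 405 (.leaf 0x0) (.leaf 0x0)) (.node 407 (.leaf 0xa0b0f0e0a0005) (.node 408 (.leaf 0x0) (.leaf 0x0))))))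

def argWS_41 : Store := (.node 390 argWS_39 argWS_40)

def argWS_42 : Store := (.node 418 (.node 413 (.node 411 (.node 410 (.leaf 0x20001) (.leaf 0x200000604020603030009)) (.node 412 (.leaf 0x0) (.leaf 0x0))) (.node 415 (.node 414 (.leaf 0x30000060202040007) (.leaf 0x30001)) (.node 416 (.leaf 0x0) (.node 417 (.leaf 0x0) (.leaf 0x0))))) (.node 423 (.node 420 (.node 419 (.leaf 0xb090f0e0c0005) (.leaf 0x0)) (.node 421 (.leaf 0x0) (.node 422 (.leaf 0x0) (.leaf 0x20001)))) (.node 425 (.node 424 (.leaf 0x200000602020603030009) (.leaf 0x0)) (.node 426 (.leaf 0x0) (.node 427 (.leaf 0x2020000030602060503000a) (.leaf 0x602020603030008))))))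

def argWS_43 : Store := (.node 437 (.node 432 (.node 430 (.node 429 (.leaf 0x0) (.leaf 0x0)) (.node 431 (.leaf 0x0) (.leaf 0xc090a0e0004))) (.node 434 (.node 433 (.leaf 0xc090002) (.leaf 0x0)) (.node 435 (.leaf 0x0) (.node 436 (.leaf 0x0) (.leaf 0x0))))) (.node 442 (.node 439 (.node 438 (.leaf 0x0) (.leaf 0x0)) (.node 440 (.leaf 0x20000020603050007) (.node 441 (.leaf 0x30604020006) (.leaf 0x0)))) (.node 444 (.node 443 (.leaf 0x3000002060402060303000a) (.leaf 0x0)) (.node 445 (.leaf 0x3030000040202020603000a) (.node 446 (.leaf 0x0) (.leaf 0x0))))))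

def argWS_44 : Store := (.node 428 argWS_42 argWS_43)

def argWS_45 : Store := (.node 409 argWS_41 argWS_44)

def argWS_46 : Store := (.node 372 argWS_38 argWS_45)

def argWS_47 : Store := (.node 456 (.node 451 (.node 449 (.node 448 (.leaf 0x403000006030503060009) (.leaf 0x2010002)) (.node 450 (.leaf 0x0) (.leaf 0x0))) (.node 453 (.node 452 (.leaf 0x0) (.leaf 0xb0f0c0a0004)) (.node 454 (.leaf 0x0) (.node 455 (.leaf 0x30604020006) (.leaf 0x0))))) (.node 460 (.node 458 (.node 457 (.leaf 0x2020000060305030603000a) (.leaf 0x0)) (.node 459 (.leaf 0x4020000030603060402000a) (.leaf 0x0))) (.node 462 (.node 461 (.leaf 0x4020000030603060402000a) (.leaf 0x0)) (.node 463 (.leaf 0x0) (.node 464 (.leaf 0x4020000030602060503000a) (.leaf 0x300000206050006))))))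

def argWS_48 : Store := (.node 474 (.node 469 (.node 467 (.node 466 (.leaf 0x0) (.leaf 0x90f0e0003)) (.node 468 (.leaf 0x3010002) (.leaf 0x0))) (.node 471 (.node 470 (.leaf 0x0) (.leaf 0x202000003040006)) (.node 472 (.leaf 0x0) (.node 473 (.leaf 0x6030604020007) (.leaf 0x0))))) (.node 479 (.node 476 (.node 475 (.leaf 0x0) (.leaf 0x202000003030503060009)) (.node 477 (.leaf 0x20200000004) (.node 478 (.leaf 0x0) (.leaf 0x7070f0e0a0005)))) (.node 481 (.node 480 (.leaf 0x3010002) (.leaf 0x0)) (.node 482 (.leaf 0x0) (.node 483 (.leaf 0x0) (.leaf 0x20200000403040007))))))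

def argWS_49 : Store := (.node 465 argWS_47 argWS_48)

def argWS_50 : Store := (.node 493 (.node 488 (.node 486 (.node 485 (.leaf 0x201030003) (.leaf 0x0)) (.node 487 (.leaf 0xb070e0003) (.leaf 0x0))) (.node 490 (.node 489 (.leaf 0x0) (.leaf 0x0)) (.node 491 (.leaf 0x0) (.node 492 (.leaf 0x10300050306030007) (.leaf 0x0))))) (.node 497 (.node 495 (.node 494 (.leaf 0x200000602020603030009) (.leaf 0x0)) (.node 496 (.leaf 0x0) (.leaf 0x2020000030602060503000a))) (.node 499 (.node 498 (.leaf 0x30001) (.leaf 0x0)) (.node 500 (.leaf 0x0) (.node 501 (.leaf 0x0) (.leaf 0x90f0a0003))))))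

def argWS_51 : Store := (.node 511 (.node 506 (.node 504 (.node 503 (.leaf 0x402000003040006) (.leaf 0x0)) (.node 505 (.leaf 0x0) (.leaf 0x0))) (.node 508 (.node 507 (.leaf 0x50002000002050007) (.leaf 0x30604020006)) (.node 509 (.leaf 0x0) (.node 510 (.leaf 0x2020000060305030603000a) (.leaf 0x0))))) (.node 516 (.node 513 (.node 512 (.leaf 0x0) (.leaf 0x3050306030007)) (.node 514 (.leaf 0x402000604020603030009) (.node 515 (.leaf 0x0) (.leaf 0x0)))) (.node 518 (.node 517 (.leaf 0x0) (.leaf 0x90c0a0003)) (.node 519 (.leaf 0x0) (.node 520 (.leaf 0x0) (.leaf 0x40202020603040008))))))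

def argWS_52 : Store := (.node 502 argWS_50 argWS_51)

def argWS_53 : Store := (.node 484 argWS_49 argWS_52)

def argWS_54 : Store := (.node 530 (.node 525 (.node 523 (.node 522 (.leaf 0x402000402020603030009) (.leaf 0x0)) (.node 524 (.leaf 0x0) (.leaf 0x20006050005))) (.node 527 (.node 526 (.leaf 0x3010002) (.leaf 0x0)) (.node 528 (.leaf 0x0) (.node 529 (.leaf 0x0) (.leaf 0x70f0e0003))))) (.node 534 (.node 532 (.node 531 (.leaf 0x306020605030006) (.leaf 0x0)) (.node 533 (.leaf 0x0) (.leaf 0x0))) (.node 536 (.node 535 (.leaf 0x0) (.leaf 0x300000206020006)) (.node 537 (.leaf 0x2000003060202060503000b) (.node 538 (.leaf 0x0) (.leaf 0xb09080c0004))))))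

def argWS_55 : Store := (.node 548 (.node 543 (.node 541 (.node 540 (.leaf 0x0) (.leaf 0x0)) (.node 542 (.leaf 0x0) (.leaf 0x0))) (.node 545 (.node 544 (.leaf 0x0) (.leaf 0x2000003030503060009)) (.node 546 (.leaf 0x301020003) (.node 547 (.leaf 0x400000200060402060303000b) (.leaf 0x0))))) (.node 553 (.node 550 (.node 549 (.leaf 0x3000402050005) (.leaf 0x0)) (.node 551 (.leaf 0x0) (.node 552 (.leaf 0x0) (.leaf 0x5000300020603030008)))) (.node 555 (.node 554 (.leaf 0x0) (.leaf 0x30306030604020008)) (.node 556 (.leaf 0x0) (.node 557 (.leaf 0x303000602020202060305000b) (.leaf 0x0))))))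

def argWS_56 : Store := (.node 539 argWS_54 argWS_55)

def argWS_57 : Store := (.node 567 (.node 562 (.node 560 (.node 559 (.leaf 0x5000300020602060503000a) (.leaf 0x0)) (.node 561 (.leaf 0x3060002000403040008) (.leaf 0x0))) (.node 564 (.node 563 (.leaf 0x0) (.leaf 0x5000300020603050306000a)) (.node 565 (.leaf 0x30002020603060402000a) (.node 566 (.leaf 0x0) (.leaf 0x0))))) (.node 572 (.node 569 (.node 568 (.leaf 0x0) (.leaf 0xc090d0c0004)) (.node 570 (.leaf 0x0) (.node 571 (.leaf 0x0) (.leaf 0x0)))) (.node 574 (.node 573 (.leaf 0x0) (.leaf 0x303010602020206030009)) (.node 575 (.leaf 0x30001) (.node 576 (.leaf 0x200000202020603040009) (.leaf 0x0))))))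

def argWS_58 : Store := (.node 586 (.node 581 (.node 579 (.node 578 (.leaf 0x0) (.leaf 0x0)) (.node 580 (.leaf 0x0) (.leaf 0x20001))) (.node 583 (.node 582 (.leaf 0x0) (.leaf 0x2000002)) (.node 584 (.leaf 0x0) (.node 585 (.leaf 0x200020003) (.leaf 0x0))))) (.node 591 (.node 588 (.node 587 (.leaf 0x20002020004) (.leaf 0x0)) (.node 589 (.leaf 0x0) (.node 590 (.leaf 0x301060206030503060009) (.leaf 0x60200040603030007)))) (.node 593 (.node 592 (.leaf 0x0) (.leaf 0x0)) (.node 594 (.leaf 0x0) (.node 595 (.leaf 0x9070a0e0004) (.leaf 0x0))))))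

def argWS_59 : Store := (.node 577 argWS_57 argWS_58)

def argWS_60 : Store := (.node 558 argWS_56 argWS_59)

def argWS_61 : Store := (.node 521 argWS_53 argWS_60)

def argWS_62 : Store := (.node 447 argWS_46 argWS_61)

def argWS : Store := (.node 298 argWS_31 argWS_62)

def nodeSrcS : Store := (.leaf 0x20001000100000000)

noncomputable def nodeSrc : Nat → Nat := get16 nodeSrcS

def nodeWS : Store := (.node 2 (.node 1 (.leaf 0x0) (.leaf 0x0)) (.node 3 (.leaf 0x30001) (.node 4 (.leaf 0x301030003) (.leaf 0x30001))))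

def nodeTS : Store := (.leaf 0x10001000100010000)

noncomputable def nodeT : Nat → Nat := get16 nodeTS


end Cfsg.Agent.HSRecog.Cert2
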