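import Cfsg.Agent.DCoset.Emit

/-! Generated by tools/dcoset/emit.py: the permutation table. -/

set_option Elab.async false

namespace Cfsg.Agent.HSRecog.Cert2

open Cfsg.Agent.DCoset Cfsg.Agent.CosetCert

def actS : Store := (.node 2 (.node 1 (.leaf 0xf000e000d000c000b000a0009000800070006000500040003000200010000003f003e003d003c003b003a0039003800370036003500340033003200310030002f002e002d002c002b002a0029002800270026002500240023002200210020001f001e001d001c001b001a0019001800170016001500140013001200110010002f002e002d002c002b002a0029002800270026002500240023002200210020001f001e001d001c001b001a0019001800170016001500140013001200110010000f000e000d000c000b000a0009000800070006000500040003000200010000003f003e003d003c003b003a0039003800370036003500340033003200310030) (.leaf 0x3100270019000f003000260018000e00330025001b000d00320024001a000c003d00230015000b003c00220014000a003f002100170009003e0020001600080039002f001100070038002e00100006003b002d00130005003a002c001200040035002b001d00030034002a001c000200370029001f000100360028001e000000270023002f002b00170013001f001b00070003000f000b00370033003f003b001e001a00160012000e000a00060002003e003a00360032002e002a0026002200050001000d000900350031003d003900250021002d002900150011001d0019003c003800340030002c002800240020001c001800140010000c000800040000)) (.node 3 (.leaf 0x140039001e003300170038001d00320016003b001c00310015003a001f003000040029000e002300070028000d00220006002b000c00210005002a000f002000340019003e001300370018003d00120036001b003c00110035001a003f001000240009002e000300270008002d00020026000b002c00010025000a002f00000011001d0019001500360032003e003a001b00170013001f003c0038003400300001000d0009000500260022002e002a000b00070003000f002c0028002400200031003d0039003500160012001e001a003b00370033003f001c0018001400100021002d0029002500060002000e000a002b00270023002f000c000800040000)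 (.leaf 0x1f001b00170013001e001a00160012001d001900150011001c001800140010002f002b00270023002e002a00260022002d002900250021002c002800240020003f003b00370033003e003a00360032003d003900350031003c003800340030000f000b00070003000e000a00060002000d000900050001000c000800040000)))

/-- The letters as permutations of 64 points, and the base. -/
noncomputable def tab : Tab where
  k := 3
  nL := 7
  act g p := get16 actS (Nat.add (Nat.mul g 64) p)
  base := 0x400100000

theorem tab_act_lt (g p : Nat) : tab.act g p < 65536 := get16_lt _ _

end Cfsg.Agent.HSRecog.Cert2
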